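import Groth.Agent.RelHullLib.Construct
import Mathlib.CategoryTheory.Monoidal.Cartesian.Grp
import Mathlib.AlgebraicGeometry.Morphisms.Flat

/-! The relative affine hull of a homomorphism of groups is a group. -/

set_option autoImplicit false
set_option linter.style.haveILetI false
set_option backward.isDefEq.respectTransparency false
set_option maxHeartbeats 1000000

universe u

open CategoryTheory CategoryTheory.Limits MonoidalCategory CartesianMonoidalCategory AlgebraicGeometry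
open scoped MonObj

noncomputable section

attribute [-instance] CategoryTheory.Hom.commGroup

namespace RelHullLib

variable {S : Scheme.{u}}

theorem over_hom_ext {X Y H Z : Over S} (f : X ⟶ Y) [IsΓ f.left] (q : H ⟶ Z) [IsAffineHom q.left] {c c' : Y ⟶ H}
    (hq : c ≫ q = c' ≫ q) (h : f ≫ c = f ≫ c') : c = c' :=
  Over.OverMorphism.ext (hom_ext f.left q.left (congrArg CommaMorphism.left hq) (congrArg CommaMorphism.left h))

theorem over_desc {X Y H Z : Over S} (f : X ⟶ Y) [IsΓ f.left] (q : H ⟶ Z) [IsAffineHom q.left] (a : X ⟶ H) (b : Y ⟶ Z)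
    (hab : a ≫ q = f ≫ b) : ∃ c : Y ⟶ H, f ≫ c = a ∧ c ≫ q = b := by
  obtain ⟨c, h1, h2⟩ := exists_desc f.left q.left a.left b.left (congrArg CommaMorphism.left hab)
  refine ⟨Over.homMk c ?_, Over.OverMorphism.ext h1, Over.OverMorphism.ext h2⟩
  rw [← Over.w q, reassoc_of% h2, Over.w]

theorem isPullback_whiskerRight {X Y : Over S} (f : X ⟶ Y) (Z : Over S) :
    IsPullback (fst X Z) (f ▷ Z) f (fst Y Z) := by
  refine ⟨⟨by simp⟩, ⟨PullbackCone.IsLimit.mk _ (fun s => lift s.fst (s.snd ≫ snd Y Z)) (fun s => by simp)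
    (fun s => ?_) (fun s m h1 h2 => ?_)⟩⟩
  · refine CartesianMonoidalCategory.hom_ext _ _ ?_ (by simp)
    simpa using s.condition
  · refine CartesianMonoidalCategory.hom_ext _ _ (by simpa using h1) ?_
    rw [lift_snd, ← h2]
    simp

theorem isPullback_whiskerLeft (Z : Over S) {X Y : Over S} (f : X ⟶ Y) :
    IsPullback (snd Z X) (Z ◁ f) f (snd Z Y) := by
  refine ⟨⟨by simp⟩, ⟨PullbackCone.IsLimit.mk _ (fun s => lift (s.snd ≫ fst Z Y) s.fst) (fun s => by simp)
    (fun s => ?_) (fun s m h1 h2 => ?_)⟩⟩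
  · refine CartesianMonoidalCategory.hom_ext _ _ (by simp) ?_
    simpa using s.condition
  · refine CartesianMonoidalCategory.hom_ext _ _ ?_ (by simpa using h1)
    rw [lift_fst, ← h2]
    simp

section stable

variable {X Y : Over S} (f : X ⟶ Y) [IsΓ f.left] [QuasiCompact f.left] [QuasiSeparated f.left]

instance flat_fst_left (Y Z : Over S) [Flat Z.hom] : Flat (fst Y Z).left :=
  MorphismProperty.pullback_fst (P := @Flat) Y.hom Z.hom ‹_›

instance flat_snd_left (Y Z : Over S) [Flat Y.hom] : Flat (snd Y Z).left :=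
  MorphismProperty.pullback_snd (P := @Flat) Y.hom Z.hom ‹_›

theorem isΓ_whiskerRight (Z : Over S) [Flat Z.hom] : IsΓ (f ▷ Z).left :=
  isΓ_of_isPullback (f := f.left) (g := (fst Y Z).left) (g' := (fst X Z).left)
    ((isPullback_whiskerRight f Z).map (Over.forget S))

theorem isΓ_whiskerLeft (Z : Over S) [Flat Z.hom] : IsΓ (Z ◁ f).left :=
  isΓ_of_isPullback (f := f.left) (g := (snd Z Y).left) (g' := (snd Z X).left)
    ((isPullback_whiskerLeft Z f).map (Over.forget S))

theorem qc_whiskerRight (Z : Over S) : QuasiCompact (f ▷ Z).left :=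
  MorphismProperty.of_isPullback ((isPullback_whiskerRight f Z).map (Over.forget S)) ‹QuasiCompact f.left›

theorem qs_whiskerRight (Z : Over S) : QuasiSeparated (f ▷ Z).left :=
  MorphismProperty.of_isPullback ((isPullback_whiskerRight f Z).map (Over.forget S)) ‹QuasiSeparated f.left›

theorem isΓ_tensor [Flat X.hom] [Flat Y.hom] : IsΓ (f ⊗ₘ f).left := by
  rw [MonoidalCategory.tensorHom_def, Over.comp_left]
  haveI := isΓ_whiskerRight f X
  haveI := isΓ_whiskerLeft f Y
  infer_instance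

theorem isΓ_tensor₃ [Flat X.hom] [Flat Y.hom] : IsΓ ((f ⊗ₘ f) ⊗ₘ f).left := by
  haveI : Flat (X ⊗ Y).hom := by show Flat (pullback.fst X.hom Y.hom ≫ X.hom); infer_instance
  haveI : Flat (Y ⊗ Y).hom := by show Flat (pullback.fst Y.hom Y.hom ≫ Y.hom); infer_instance
  rw [MonoidalCategory.tensorHom_def, Over.comp_left]
  haveI := isΓ_whiskerLeft f (Y ⊗ Y)
  haveI : IsΓ ((f ⊗ₘ f) ▷ X).left := by
    rw [MonoidalCategory.tensorHom_def, comp_whiskerRight, Over.comp_left]
    haveI : IsΓ ((f ▷ X) ▷ X).left := by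
      haveI := isΓ_whiskerRight f X
      haveI := qc_whiskerRight f X
      haveI := qs_whiskerRight f X
      exact isΓ_whiskerRight (f ▷ X) X
    haveI : IsΓ ((Y ◁ f) ▷ X).left := by
      haveI := isΓ_whiskerLeft f Y
      haveI : QuasiCompact (Y ◁ f).left :=
        MorphismProperty.of_isPullback ((isPullback_whiskerLeft Y f).map (Over.forget S)) ‹QuasiCompact f.left›
      haveI : QuasiSeparated (Y ◁ f).left :=
        MorphismProperty.of_isPullback ((isPullback_whiskerLeft Y f).map (Over.forget S)) ‹QuasiSeparated f.left›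
      exact isΓ_whiskerRight (Y ◁ f) X
    infer_instance
  infer_instance

end stable

/-- The affine hull of a homomorphism is a group. -/
theorem exists_grpObj {G H G₀ : Over S} [GrpObj G] [GrpObj G₀] [Flat G.hom] [Flat H.hom] (ρ : G ⟶ H) (q : H ⟶ G₀)
    [IsΓ ρ.left] [QuasiCompact ρ.left] [QuasiSeparated ρ.left] [IsAffineHom q.left] [IsMonHom (ρ ≫ q)] :
    ∃ _ : GrpObj H, IsMonHom ρ ∧ IsMonHom q := by
  haveI := isΓ_tensor ρ
  haveI := isΓ_tensor₃ ρ
  have hmulG : μ[G] ≫ ρ ≫ q = ((ρ ≫ q) ⊗ₘ (ρ ≫ q)) ≫ μ[G₀] := IsMonHom.mul_hom _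
  have honeG : η[G] ≫ ρ ≫ q = η[G₀] := IsMonHom.one_hom _
  obtain ⟨m, hm, hmq⟩ := over_desc (ρ ⊗ₘ ρ) q (μ[G] ≫ ρ) ((q ⊗ₘ q) ≫ μ[G₀])
    (by rw [Category.assoc, hmulG, tensorHom_comp_tensorHom_assoc])
  obtain ⟨iv, hiv, hivq⟩ := over_desc ρ q (GrpObj.inv ≫ ρ) (q ≫ GrpObj.inv)
    (by rw [Category.assoc, GrpObj.inv_hom (f := ρ ≫ q), Category.assoc])
  let e : 𝟙_ (Over S) ⟶ H := η[G] ≫ ρ
  have heq : e ≫ q = η[G₀] := by simp only [e, Category.assoc]; exact honeG
  haveI : IsΓ (𝟙 (𝟙_ (Over S)) ⊗ₘ ρ).left := by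
    rw [id_tensorHom]
    haveI : Flat (𝟙_ (Over S)).hom := inferInstanceAs (Flat (𝟙 S))
    exact isΓ_whiskerLeft ρ _
  haveI : IsΓ (ρ ⊗ₘ 𝟙 (𝟙_ (Over S))).left := by
    rw [tensorHom_id]
    haveI : Flat (𝟙_ (Over S)).hom := inferInstanceAs (Flat (𝟙 S))
    exact isΓ_whiskerRight ρ _
  let M : MonObj H :=
    { one := e
      mul := m
      one_mul := by
        refine over_hom_ext (𝟙 (𝟙_ (Over S)) ⊗ₘ ρ) q ?_ ?_
        · rw [Category.assoc, hmq, ← tensorHom_id, tensorHom_comp_tensorHom_assoc, heq, Category.id_comp,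
            show η[G₀] ⊗ₘ q = (𝟙 _ ⊗ₘ q) ≫ (η[G₀] ▷ G₀) by rw [← tensorHom_id, tensorHom_comp_tensorHom,
              Category.id_comp, Category.comp_id], Category.assoc, MonObj.one_mul, id_tensorHom,
            MonoidalCategory.leftUnitor_naturality]
        · rw [← tensorHom_id, tensorHom_comp_tensorHom_assoc, Category.id_comp, Category.comp_id,
            show e ⊗ₘ ρ = (η[G] ▷ G) ≫ (ρ ⊗ₘ ρ) by
              rw [← tensorHom_id, tensorHom_comp_tensorHom, Category.id_comp],
            Category.assoc, hm, MonObj.one_mul_assoc, id_tensorHom, MonoidalCategory.leftUnitor_naturality]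
      mul_one := by
        refine over_hom_ext (ρ ⊗ₘ 𝟙 (𝟙_ (Over S))) q ?_ ?_
        · rw [Category.assoc, hmq, ← id_tensorHom, tensorHom_comp_tensorHom_assoc, heq, Category.id_comp,
            show q ⊗ₘ η[G₀] = (q ⊗ₘ 𝟙 _) ≫ (G₀ ◁ η[G₀]) by rw [← id_tensorHom, tensorHom_comp_tensorHom,
              Category.id_comp, Category.comp_id], Category.assoc, MonObj.mul_one, tensorHom_id,
            MonoidalCategory.rightUnitor_naturality]
        · rw [← id_tensorHom, tensorHom_comp_tensorHom_assoc, Category.id_comp, Category.comp_id,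
            show ρ ⊗ₘ e = (G ◁ η[G]) ≫ (ρ ⊗ₘ ρ) by
              rw [← id_tensorHom, tensorHom_comp_tensorHom, Category.id_comp],
            Category.assoc, hm, MonObj.mul_one_assoc, tensorHom_id, MonoidalCategory.rightUnitor_naturality]
      mul_assoc := by
        refine over_hom_ext ((ρ ⊗ₘ ρ) ⊗ₘ ρ) q ?_ ?_
        · simp only [Category.assoc, hmq]
          rw [← tensorHom_id, tensorHom_comp_tensorHom_assoc, hmq, Category.id_comp, ← id_tensorHom,
            tensorHom_comp_tensorHom_assoc, hmq, Category.id_comp,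
            show ((q ⊗ₘ q) ≫ μ[G₀]) ⊗ₘ q = ((q ⊗ₘ q) ⊗ₘ q) ≫ (μ[G₀] ▷ G₀) by
              rw [← tensorHom_id, tensorHom_comp_tensorHom, Category.comp_id],
            Category.assoc, MonObj.mul_assoc,
            show q ⊗ₘ ((q ⊗ₘ q) ≫ μ[G₀]) = (q ⊗ₘ (q ⊗ₘ q)) ≫ (G₀ ◁ μ[G₀]) by
              rw [← id_tensorHom, tensorHom_comp_tensorHom, Category.comp_id],
            Category.assoc, MonoidalCategory.associator_naturality_assoc]
        · rw [← tensorHom_id, tensorHom_comp_tensorHom_assoc, Category.comp_id, hm,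
            show (μ[G] ≫ ρ) ⊗ₘ ρ = (μ[G] ▷ G) ≫ (ρ ⊗ₘ ρ) by
              rw [← tensorHom_id, tensorHom_comp_tensorHom, Category.id_comp],
            Category.assoc, hm, MonoidalCategory.associator_naturality_assoc, ← id_tensorHom,
            tensorHom_comp_tensorHom_assoc, Category.comp_id, hm,
            show ρ ⊗ₘ (μ[G] ≫ ρ) = (G ◁ μ[G]) ≫ (ρ ⊗ₘ ρ) by
              rw [← id_tensorHom, tensorHom_comp_tensorHom, Category.id_comp],
            Category.assoc, hm, MonObj.mul_assoc_assoc] }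
  refine ⟨{ toMonObj := M, inv := iv, left_inv := ?_, right_inv := ?_ }, ⟨rfl, hm.symm⟩, ⟨heq, hmq⟩⟩
  · refine over_hom_ext ρ q ?_ ?_
    · show (lift iv (𝟙 H) ≫ m) ≫ q = (toUnit H ≫ e) ≫ q
      rw [Category.assoc, hmq, lift_map_assoc, hivq, Category.id_comp, Category.assoc, heq,
        show lift (q ≫ GrpObj.inv) q = q ≫ lift (GrpObj.inv (X := G₀)) (𝟙 G₀) by rw [comp_lift, Category.comp_id],
        Category.assoc, GrpObj.left_inv, ← Category.assoc q, toUnit_unique (q ≫ toUnit _) (toUnit H)]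
    · show ρ ≫ lift iv (𝟙 H) ≫ m = ρ ≫ toUnit H ≫ e
      rw [← Category.assoc, comp_lift, hiv, Category.comp_id,
        show lift (GrpObj.inv ≫ ρ) ρ = lift (GrpObj.inv (X := G)) (𝟙 G) ≫ (ρ ⊗ₘ ρ) by rw [lift_map, Category.id_comp],
        Category.assoc, hm, GrpObj.left_inv_assoc, ← Category.assoc ρ]
      rw [toUnit_unique (ρ ≫ toUnit _) (toUnit G)]
  · refine over_hom_ext ρ q ?_ ?_
    · show (lift (𝟙 H) iv ≫ m) ≫ q = (toUnit H ≫ e) ≫ q
      rw [Category.assoc, hmq, lift_map_assoc, hivq, Category.id_comp, Category.assoc, heq,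
        show lift q (q ≫ GrpObj.inv) = q ≫ lift (𝟙 G₀) (GrpObj.inv (X := G₀)) by rw [comp_lift, Category.comp_id],
        Category.assoc, GrpObj.right_inv, ← Category.assoc q, toUnit_unique (q ≫ toUnit _) (toUnit H)]
    · show ρ ≫ lift (𝟙 H) iv ≫ m = ρ ≫ toUnit H ≫ e
      rw [← Category.assoc, comp_lift, hiv, Category.comp_id,
        show lift ρ (GrpObj.inv ≫ ρ) = lift (𝟙 G) (GrpObj.inv (X := G)) ≫ (ρ ⊗ₘ ρ) by rw [lift_map, Category.id_comp],
        Category.assoc, hm, GrpObj.right_inv_assoc, ← Category.assoc ρ]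
      rw [toUnit_unique (ρ ≫ toUnit _) (toUnit G)]

end RelHullLib
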