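import Groth.Agent.SteinLib.App

/-! Morphisms inducing isomorphisms on sections over every open: extension into relatively affine schemes. -/

set_option autoImplicit false
set_option linter.style.haveILetI false
set_option backward.isDefEq.respectTransparency false
set_option maxHeartbeats 1000000

universe u

open CategoryTheory CategoryTheory.Limits AlgebraicGeometry TopologicalSpace Opposite

noncomputable section

namespace RelHullLib

/-- The morphism induces isomorphisms on sections over every open. -/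
class IsΓ {X Y : Scheme.{u}} (f : X ⟶ Y) : Prop where
  iso : ∀ W : Y.Opens, IsIso (f.app W)

instance {X Y : Scheme.{u}} (f : X ⟶ Y) [IsΓ f] (W : Y.Opens) : IsIso (f.app W) := IsΓ.iso W

instance isΓ_comp {X Y Z : Scheme.{u}} (f : X ⟶ Y) (g : Y ⟶ Z) [IsΓ f] [IsΓ g] : IsΓ (f ≫ g) :=
  ⟨fun W => by rw [Scheme.Hom.comp_app]; infer_instance⟩

theorem isΓ_of_isIso {X Y : Scheme.{u}} (f : X ⟶ Y) [IsIso f] : IsΓ f := ⟨fun _ => inferInstance⟩

instance isΓ_restrict {X Y : Scheme.{u}} (f : X ⟶ Y) [IsΓ f] (U : Y.Opens) : IsΓ (f ∣_ U) :=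
  ⟨fun W => by rw [morphismRestrict_app]; infer_instance⟩

theorem dominant_of_isΓ {X Y : Scheme.{u}} (f : X ⟶ Y) [IsΓ f] [QuasiCompact f] : IsSchemeTheoreticallyDominant f := by
  refine ⟨Scheme.IdealSheafData.ext (funext fun U => ?_)⟩
  rw [Scheme.Hom.ker_apply, Scheme.IdealSheafData.ideal_bot, Pi.bot_apply, ← RingHom.injective_iff_ker_eq_bot]
  exact (ConcreteCategory.bijective_of_isIso (f.app U.1)).1

/-- Base change along a flat morphism. -/
theorem isΓ_snd {X Y Y' : Scheme.{u}} (f : X ⟶ Y) [IsΓ f] [QuasiCompact f] [QuasiSeparated f] (g : Y' ⟶ Y) [Flat g] :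
    IsΓ (pullback.snd f g) := by
  refine ⟨fun W => SteinLib.isIso_app_of_cover _
    (fun V : {V : Y'.affineOpens // ∃ U : Y.affineOpens, V.1 ≤ g ⁻¹ᵁ U.1} => V.1.1) (fun V => V.1.2)
    (fun y => ?_) (fun V => ?_) W⟩
  · obtain ⟨U, hU, hyU, -⟩ := exists_isAffineOpen_mem_and_subset (X := Y) (x := g y) (U := ⊤) trivial
    obtain ⟨V, hV, hyV, hVU⟩ := exists_isAffineOpen_mem_and_subset (X := Y') (x := y) (U := g ⁻¹ᵁ U) hyU
    exact ⟨⟨⟨V, hV⟩, ⟨U, hU⟩, hVU⟩, hyV⟩
  · obtain ⟨⟨V, hV⟩, ⟨U, hU⟩, hVU⟩ := V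
    change IsIso ((pullback.snd f g).app V)
    haveI : IsAffine V := hV
    have hg : ⊤ ≤ (V.ι ≫ g) ⁻¹ᵁ U := fun z _ => hVU z.2
    haveI h1 := SteinLib.isIso_snd_appTop f (V.ι ≫ g) hU hg inferInstance
    have big := (IsPullback.of_hasPullback (pullback.snd f g) V.ι).paste_horiz (IsPullback.of_hasPullback f g)
    have sq := isPullback_morphismRestrict (pullback.snd f g) V
    have e : IsPullback ((pullback.snd f g ⁻¹ᵁ V).ι ≫ pullback.fst f g) (pullback.snd f g ∣_ V) f (V.ι ≫ g) :=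
      sq.flip.paste_horiz (IsPullback.of_hasPullback f g)
    have h2 : IsIso (pullback.snd f g ∣_ V).appTop := by
      rw [← e.isoPullback_hom_snd, Scheme.Hom.comp_appTop]
      infer_instance
    rw [Scheme.Hom.appTop, morphismRestrict_app] at h2
    haveI := h2
    have h3 : IsIso ((pullback.snd f g).app (V.ι ''ᵁ ⊤)) := (isIso_comp_right_iff _ _).1 h2
    have key : ∀ A B : Y'.Opens, A = B → IsIso ((pullback.snd f g).app A) → IsIso ((pullback.snd f g).app B) := by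
      rintro A B rfl; exact id
    exact key _ _ V.ι_image_top h3

/-- Base change along a flat morphism, for an arbitrary pullback square. -/
theorem isΓ_of_isPullback {X Y X' Y' : Scheme.{u}} {f : X ⟶ Y} {g : Y' ⟶ Y} {f' : X' ⟶ Y'} {g' : X' ⟶ X}
    (sq : IsPullback g' f' f g) [IsΓ f] [QuasiCompact f] [QuasiSeparated f] [Flat g] : IsΓ f' := by
  rw [← sq.isoPullback_hom_snd]
  haveI := isΓ_snd f g
  haveI := isΓ_of_isIso sq.isoPullback.hom
  infer_instance

theorem hom_ext_affine {X Y H : Scheme.{u}} (f : X ⟶ Y) [IsΓ f] [IsAffine H] {c c' : Y ⟶ H} (h : f ≫ c = f ≫ c') :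
    c = c' := by
  refine ext_of_isAffine ?_
  haveI : IsIso f.appTop := IsΓ.iso _
  rw [← cancel_mono f.appTop, ← Scheme.Hom.comp_appTop, ← Scheme.Hom.comp_appTop, h]

theorem section_ext {X Y H : Scheme.{u}} (f : X ⟶ Y) [IsΓ f] (p : H ⟶ Y) [IsAffineHom p] {c c' : Y ⟶ H}
    (hc : c ≫ p = 𝟙 Y) (hc' : c' ≫ p = 𝟙 Y) (h : f ≫ c = f ≫ c') : c = c' := by
  refine Scheme.Cover.hom_ext (Y.openCoverOfIsOpenCover (fun U : Y.affineOpens => U.1) (iSup_affineOpens_eq_top Y)) _ _ fun U => ?_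
  change U.1.ι ≫ c = U.1.ι ≫ c'
  haveI : IsAffine (pullback p U.1.ι) := by
    haveI : IsAffine U.1.toScheme := U.2
    exact isAffine_of_isAffineHom (pullback.snd p U.1.ι)
  let l := pullback.lift (f := p) (g := U.1.ι) (U.1.ι ≫ c) (𝟙 _) (by simp [hc])
  let l' := pullback.lift (f := p) (g := U.1.ι) (U.1.ι ≫ c') (𝟙 _) (by simp [hc'])
  have hl : l = l' := by
    refine hom_ext_affine (f ∣_ U.1) (pullback.hom_ext ?_ ?_)
    · simp [l, l', morphismRestrict_ι_assoc, h]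
    · simp [l, l']
  simpa [l, l'] using congrArg (· ≫ pullback.fst p U.1.ι) hl

theorem exists_section {X Y H : Scheme.{u}} (f : X ⟶ Y) [IsΓ f] (p : H ⟶ Y) [IsAffineHom p] (a : X ⟶ H)
    (ha : a ≫ p = f) : ∃ c : Y ⟶ H, c ≫ p = 𝟙 Y ∧ f ≫ c = a := by
  have loc : ∀ U : Y.affineOpens, ∃ c : U.1.toScheme ⟶ H, c ≫ p = U.1.ι ∧
      (f ∣_ U.1) ≫ c = (f ⁻¹ᵁ U.1).ι ≫ a := by
    intro U
    haveI : IsAffine U.1.toScheme := U.2
    haveI : IsAffine (pullback p U.1.ι) := isAffine_of_isAffineHom (pullback.snd p U.1.ι)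
    let a' := pullback.lift (f := p) (g := U.1.ι) ((f ⁻¹ᵁ U.1).ι ≫ a) (f ∣_ U.1) (by simp [ha])
    haveI : IsIso (f ∣_ U.1).appTop := IsΓ.iso _
    let g₀ : U.1.toScheme ⟶ pullback p U.1.ι :=
      U.1.toScheme.toSpecΓ ≫ Spec.map (a'.appTop ≫ inv (f ∣_ U.1).appTop) ≫ (pullback p U.1.ι).isoSpec.inv
    have e : (f ∣_ U.1) ≫ g₀ = a' := by
      simp only [g₀]
      rw [Scheme.toSpecΓ_naturality_assoc, ← Spec.map_comp_assoc, Category.assoc, IsIso.inv_hom_id,
        Category.comp_id, ← Scheme.toSpecΓ_naturality_assoc, ← Scheme.isoSpec_hom, Iso.hom_inv_id, Category.comp_id]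
    have hw : g₀ ≫ pullback.snd p U.1.ι = 𝟙 _ :=
      hom_ext_affine (f ∣_ U.1) (by rw [reassoc_of% e, Category.comp_id]; exact pullback.lift_snd _ _ _)
    refine ⟨g₀ ≫ pullback.fst p U.1.ι, ?_, ?_⟩
    · rw [Category.assoc, pullback.condition, reassoc_of% hw]
    · rw [reassoc_of% e]; exact pullback.lift_fst _ _ _
  choose c hc1 hc2 using loc
  let 𝒰 := Y.openCoverOfIsOpenCover (fun U : Y.affineOpens => U.1) (iSup_affineOpens_eq_top Y)
  have compat : ∀ U V : Y.affineOpens,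
      Y.homOfLE (inf_le_left : U.1 ⊓ V.1 ≤ U.1) ≫ c U = Y.homOfLE (inf_le_right : U.1 ⊓ V.1 ≤ V.1) ≫ c V := by
    intro U V
    let W := U.1 ⊓ V.1
    haveI : IsAffineHom (pullback.snd p W.ι) := MorphismProperty.pullback_snd _ _ ‹IsAffineHom p›
    let s : W.toScheme ⟶ pullback p W.ι := pullback.lift (Y.homOfLE inf_le_left ≫ c U) (𝟙 _) (by simp [hc1, W])
    let t : W.toScheme ⟶ pullback p W.ι := pullback.lift (Y.homOfLE inf_le_right ≫ c V) (𝟙 _) (by simp [hc1, W])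
    have hst : s = t := by
      refine section_ext (f ∣_ W) (pullback.snd p W.ι) (pullback.lift_snd _ _ _) (pullback.lift_snd _ _ _) (pullback.hom_ext ?_ (by simp [s, t]))
      have e1 : (f ∣_ W) ≫ Y.homOfLE (inf_le_left : W ≤ U.1) = X.homOfLE (f.preimage_mono inf_le_left) ≫ (f ∣_ U.1) := by
        rw [← cancel_mono U.1.ι]; simp [W]
      have e2 : (f ∣_ W) ≫ Y.homOfLE (inf_le_right : W ≤ V.1) = X.homOfLE (f.preimage_mono inf_le_right) ≫ (f ∣_ V.1) := by
        rw [← cancel_mono V.1.ι]; simp [W]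
      simp only [s, t, Category.assoc, pullback.lift_fst]
      rw [reassoc_of% e1, reassoc_of% e2, hc2, hc2]
      simp
    simpa [s, t] using congrArg (· ≫ pullback.fst p W.ι) hst
  let glue : Y ⟶ H := 𝒰.glueMorphisms c fun U V => by
    have sq := isPullback_opens_inf U.1 V.1
    show pullback.fst U.1.ι V.1.ι ≫ c U = pullback.snd U.1.ι V.1.ι ≫ c V
    rw [← sq.isoPullback_inv_fst, ← sq.isoPullback_inv_snd, Category.assoc, Category.assoc, compat U V]
  have hglue : ∀ U : Y.affineOpens, U.1.ι ≫ glue = c U := fun U => 𝒰.ι_glueMorphisms c _ U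
  refine ⟨glue, Scheme.Cover.hom_ext 𝒰 _ _ fun U => ?_, ?_⟩
  · change U.1.ι ≫ glue ≫ p = U.1.ι ≫ 𝟙 Y
    rw [reassoc_of% hglue U, hc1, Category.comp_id]
  · refine Scheme.Cover.hom_ext (X.openCoverOfIsOpenCover (fun U : Y.affineOpens => f ⁻¹ᵁ U.1)
      (.comap (iSup_affineOpens_eq_top Y) f.base.hom)) _ _ fun U => ?_
    change (f ⁻¹ᵁ U.1).ι ≫ f ≫ glue = (f ⁻¹ᵁ U.1).ι ≫ a
    rw [← morphismRestrict_ι_assoc, hglue U, hc2]

/-- Morphisms into a scheme which is affine over `Z` are determined by their composite with a Γ-isomorphism. -/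
theorem hom_ext {X Y H Z : Scheme.{u}} (f : X ⟶ Y) [IsΓ f] (q : H ⟶ Z) [IsAffineHom q] {c c' : Y ⟶ H}
    (hq : c ≫ q = c' ≫ q) (h : f ≫ c = f ≫ c') : c = c' := by
  let p := pullback.fst (c ≫ q) q
  let s : Y ⟶ pullback (c ≫ q) q := pullback.lift (𝟙 _) c (by simp)
  let t : Y ⟶ pullback (c ≫ q) q := pullback.lift (𝟙 _) c' (by simp [hq])
  haveI : IsAffineHom p := MorphismProperty.pullback_fst _ _ ‹IsAffineHom q›
  have hst : s = t := section_ext f p (pullback.lift_fst _ _ _) (pullback.lift_fst _ _ _)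
    (pullback.hom_ext (by simp [s, t]) (by simp [s, t, h]))
  simpa [s, t] using congrArg (· ≫ pullback.snd (c ≫ q) q) hst

/-- Morphisms into a scheme which is affine over `Z` extend along a Γ-isomorphism. -/
theorem exists_desc {X Y H Z : Scheme.{u}} (f : X ⟶ Y) [IsΓ f] (q : H ⟶ Z) [IsAffineHom q] (a : X ⟶ H) (b : Y ⟶ Z)
    (hab : a ≫ q = f ≫ b) : ∃ c : Y ⟶ H, f ≫ c = a ∧ c ≫ q = b := by
  let l : X ⟶ pullback b q := pullback.lift f a hab.symm
  haveI : IsAffineHom (pullback.fst b q) := MorphismProperty.pullback_fst _ _ ‹IsAffineHom q›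
  obtain ⟨c, hc1, hc2⟩ := exists_section f (pullback.fst b q) l (pullback.lift_fst _ _ _)
  refine ⟨c ≫ pullback.snd b q, ?_, ?_⟩
  · rw [reassoc_of% hc2]; exact pullback.lift_snd _ _ _
  · rw [Category.assoc, ← pullback.condition, reassoc_of% hc1]

end RelHullLib
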