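import Groth.Agent.RelHullLib.Basic

/-! The relative affine hull `Spec f_* O_X` of a qcqs morphism. -/

set_option autoImplicit false
set_option linter.style.haveILetI false
set_option maxHeartbeats 1000000

universe u

open CategoryTheory CategoryTheory.Limits AlgebraicGeometry TopologicalSpace Opposite
open AlgebraicGeometry.Scheme AlgebraicGeometry.Scheme.AffineZariskiSite

noncomputable section

namespace RelHullLib

variable {X Y : Scheme.{u}} (f : X ⟶ Y)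

/-- The direct image of the structure sheaf on the affine site. -/
def pfDiagram : Y.AffineZariskiSiteᵒᵖ ⥤ CommRingCat :=
  ((toOpensFunctor Y).op ⋙ (TopologicalSpace.Opens.map f.base).op) ⋙ X.presheaf

/-- The structure map to the direct image. -/
def pfMap : (toOpensFunctor Y).op ⋙ Y.presheaf ⟶ pfDiagram f :=
  Functor.whiskerLeft (toOpensFunctor Y).op f.c

theorem coequifibered_pfMap [QuasiCompact f] [QuasiSeparated f] : (pfMap f).Coequifibered := by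
  refine coequifibered_iff_forall_isLocalizationAway.mpr fun U r ↦ ?_
  let inst : Algebra Γ(X, f ⁻¹ᵁ U.1) Γ(X, f ⁻¹ᵁ Y.basicOpen r) :=
    (X.presheaf.map (homOfLE (f.preimage_mono (Y.basicOpen_le r))).op).hom.toAlgebra
  show IsLocalization.Away (f.app U.1 r) Γ(X, f ⁻¹ᵁ Y.basicOpen r)
  let : Algebra Γ(X, f ⁻¹ᵁ U.1) Γ(X, X.basicOpen (f.app _ r)) :=
    (X.presheaf.map (homOfLE (X.basicOpen_le _)).op).hom.toAlgebra
  dsimp +instances [inst]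
  rw! (castMode := .all) [f.preimage_basicOpen r]
  exact isLocalization_basicOpen_of_qcqs (f.isCompact_preimage U.2.isCompact)
    (f.isQuasiSeparated_preimage U.2.isQuasiSeparated) (f.app _ r)

set_option backward.isDefEq.respectTransparency false in
/-- The relative affine hull exists. -/
theorem exists_affHull [QuasiCompact f] [QuasiSeparated f] :
    ∃ (H : Scheme.{u}) (q : H ⟶ Y) (ρ : X ⟶ H), IsAffineHom q ∧ ρ ≫ q = f ∧ IsΓ ρ := by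
  let D := AffineZariskiSite.relativeGluingData (coequifibered_pfMap f)
  haveI : (D.functor ⋙ Scheme.forget).IsLocallyDirected :=
    Scheme.Cover.RelativeGluingData.instIsLocallyDirectedI₀CompFunctorForgetOfIsThin ..
  let q := D.toBase
  let c : ∀ U : Y.AffineZariskiSite, Spec Γ(X, f ⁻¹ᵁ U.1) ⟶ D.glued := fun U => colimit.ι D.functor U
  have hoi : ∀ U, IsOpenImmersion (c U) := fun U => inferInstanceAs (IsOpenImmersion (D.cover.f U))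
  have hrange : ∀ U : Y.AffineZariskiSite, q ⁻¹ᵁ U.1 = (c U).opensRange := fun U => by
    have h := D.toBase_preimage_eq_opensRange_ι U
    rw [show ((AffineZariskiSite.directedCover Y).f U).opensRange = U.1 from
      Scheme.Opens.opensRange_ι U.1] at h
    exact h
  have hfac : ∀ U : Y.AffineZariskiSite, c U ≫ q = Spec.map (f.app U.1) ≫ U.2.fromSpec := by
    intro U
    refine (D.ι_toBase U).trans ?_
    show (Spec.map (f.app U.1) ≫ U.2.isoSpec.inv) ≫ U.1.ι = _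
    rw [Category.assoc]
    rfl
  let a : ∀ U : Y.AffineZariskiSite, (f ⁻¹ᵁ U.1).toScheme ⟶ D.glued := fun U => (f ⁻¹ᵁ U.1).toSpecΓ ≫ c U
  have ha : ∀ (U V : Y.AffineZariskiSite) (hVU : V ≤ U),
      X.homOfLE (f.preimage_mono (toOpens_mono hVU)) ≫ a U = a V := by
    intro U V hVU
    have e : Spec.map (X.presheaf.map (homOfLE (f.preimage_mono (toOpens_mono hVU))).op) ≫ c U = c V :=
      colimit.w D.functor (homOfLE hVU)
    simp only [a]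
    rw [← e, Scheme.Opens.toSpecΓ_SpecMap_presheaf_map_assoc]
  let 𝒰 : X.OpenCover := X.openCoverOfIsOpenCover (fun U : Y.affineOpens => f ⁻¹ᵁ U.1)
    (.comap (iSup_affineOpens_eq_top Y) f.base.hom)
  let ρ : X ⟶ D.glued := 𝒰.glueMorphisms (fun U => a ⟨U.1, U.2⟩) (fun U V => by
    have sq := isPullback_opens_inf (f ⁻¹ᵁ U.1) (f ⁻¹ᵁ V.1)
    show pullback.fst (f ⁻¹ᵁ U.1).ι (f ⁻¹ᵁ V.1).ι ≫ a ⟨U.1, U.2⟩ = pullback.snd _ _ ≫ a ⟨V.1, V.2⟩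
    rw [← sq.isoPullback_inv_fst, ← sq.isoPullback_inv_snd, Category.assoc, Category.assoc]
    refine congrArg (sq.isoPullback.inv ≫ ·) ?_
    refine Scheme.Cover.hom_ext ((f ⁻¹ᵁ U.1 ⊓ f ⁻¹ᵁ V.1).toScheme.openCoverOfIsOpenCover
      (fun W : {W : Y.affineOpens // (∃ g : Γ(Y, U.1), W.1 = Y.basicOpen g) ∧ ∃ g : Γ(Y, V.1), W.1 = Y.basicOpen g} =>
        (f ⁻¹ᵁ U.1 ⊓ f ⁻¹ᵁ V.1).ι ⁻¹ᵁ (f ⁻¹ᵁ W.1.1)) ?_) _ _ fun W => ?_
    · refine top_le_iff.1 fun z _ => Opens.mem_iSup.2 ?_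
      obtain ⟨g₁, g₂, hg, hz⟩ := exists_basicOpen_le_affine_inter U.2 V.2 (f ((f ⁻¹ᵁ U.1 ⊓ f ⁻¹ᵁ V.1).ι z)) ⟨z.2.1, z.2.2⟩
      exact ⟨⟨⟨_, U.2.basicOpen g₁⟩, ⟨g₁, rfl⟩, g₂, hg⟩, hz⟩
    · obtain ⟨⟨W, hW⟩, ⟨g₁, hg₁⟩, g₂, hg₂⟩ := W
      have hWU : W ≤ U.1 := hg₁.trans_le (Y.basicOpen_le g₁)
      have hWV : W ≤ V.1 := hg₂.trans_le (Y.basicOpen_le g₂)
      let W' : Y.AffineZariskiSite := ⟨W, hW⟩
      let U' : Y.AffineZariskiSite := ⟨U.1, U.2⟩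
      let V' : Y.AffineZariskiSite := ⟨V.1, V.2⟩
      have hU : W' ≤ U' := ⟨g₁, hg₁.symm⟩
      have hV : W' ≤ V' := ⟨g₂, hg₂.symm⟩
      let Z := f ⁻¹ᵁ U.1 ⊓ f ⁻¹ᵁ V.1
      have hr : Set.range (Z.ι ⁻¹ᵁ (f ⁻¹ᵁ W)).ι ⊆ Set.univ := Set.subset_univ _
      let m : (Z.ι ⁻¹ᵁ (f ⁻¹ᵁ W)).toScheme ⟶ (f ⁻¹ᵁ W).toScheme :=
        IsOpenImmersion.lift (f ⁻¹ᵁ W).ι ((Z.ι ⁻¹ᵁ (f ⁻¹ᵁ W)).ι ≫ Z.ι) (by
          rintro _ ⟨z, rfl⟩
          rw [Scheme.Opens.range_ι]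
          exact z.2)
      show (Z.ι ⁻¹ᵁ (f ⁻¹ᵁ W)).ι ≫ _ = (Z.ι ⁻¹ᵁ (f ⁻¹ᵁ W)).ι ≫ _
      have e1 : (Z.ι ⁻¹ᵁ (f ⁻¹ᵁ W)).ι ≫ X.homOfLE inf_le_left = m ≫ X.homOfLE (f.preimage_mono hWU) := by
        rw [← cancel_mono (f ⁻¹ᵁ U.1).ι]; simp [m, Z]
      have e2 : (Z.ι ⁻¹ᵁ (f ⁻¹ᵁ W)).ι ≫ X.homOfLE inf_le_right = m ≫ X.homOfLE (f.preimage_mono hWV) := by
        rw [← cancel_mono (f ⁻¹ᵁ V.1).ι]; simp [m, Z]
      rw [reassoc_of% e1, reassoc_of% e2, ha _ _ hU, ha _ _ hV])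
  have hρ : ∀ U : Y.affineOpens, (f ⁻¹ᵁ U.1).ι ≫ ρ = a ⟨U.1, U.2⟩ := fun U => 𝒰.ι_glueMorphisms _ _ U
  haveI haff : IsAffineHom q := by
    refine isAffineHom_of_forall_exists_isAffineOpen q fun s => ?_
    obtain ⟨U, hU, hsU, -⟩ := exists_isAffineOpen_mem_and_subset (x := s) (U := ⊤) trivial
    exact ⟨U, hsU, hU, by rw [hrange ⟨U, hU⟩]; exact isAffineOpen_opensRange (c ⟨U, hU⟩)⟩
  have hρq : ρ ≫ q = f := by
    refine Scheme.Cover.hom_ext 𝒰 _ _ fun U => ?_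
    change (f ⁻¹ᵁ U.1).ι ≫ ρ ≫ q = (f ⁻¹ᵁ U.1).ι ≫ f
    rw [reassoc_of% hρ U]
    simp only [a, Category.assoc, hfac]
    change (f ⁻¹ᵁ U.1).toSpecΓ ≫ Spec.map (f.app U.1) ≫ U.2.fromSpec = _
    simp
  haveI : QuasiCompact (ρ ≫ q) := by rw [hρq]; infer_instance
  haveI : QuasiSeparated (ρ ≫ q) := by rw [hρq]; infer_instance
  haveI : QuasiCompact ρ := QuasiCompact.of_comp ρ q
  haveI : QuasiSeparated ρ := QuasiSeparated.of_comp ρ q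
  refine ⟨D.glued, q, ρ, haff, hρq, ⟨fun W => SteinLib.isIso_app_of_cover ρ (fun U : Y.affineOpens => q ⁻¹ᵁ U.1)
    (fun U => U.2.preimage q) (fun z => ?_) (fun U => ?_) W⟩⟩
  · obtain ⟨U, hU, hzU, -⟩ := exists_isAffineOpen_mem_and_subset (X := Y) (x := q z) (U := ⊤) trivial
    exact ⟨⟨U, hU⟩, hzU⟩
  · let V := f ⁻¹ᵁ U.1
    have hV : ρ ⁻¹ᵁ (q ⁻¹ᵁ U.1) = V := by rw [← Scheme.Hom.comp_preimage, hρq]
    haveI := hoi ⟨U.1, U.2⟩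
    have h := Scheme.Hom.congr_app (hρ U) (q ⁻¹ᵁ U.1)
    have h1 : IsIso ((a ⟨U.1, U.2⟩).app (q ⁻¹ᵁ U.1)) := by
      simp only [a, Scheme.Hom.comp_app]
      haveI : IsIso ((c ⟨U.1, U.2⟩).app (q ⁻¹ᵁ U.1)) :=
        (c ⟨U.1, U.2⟩).isIso_app _ (hrange ⟨U.1, U.2⟩).le
      have key : ∀ O : (Spec Γ(X, V)).Opens, O = ⊤ → IsIso (V.toSpecΓ.app O) := by
        rintro O rfl
        show IsIso V.toSpecΓ.appTop
        rw [Scheme.Opens.toSpecΓ_appTop]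
        infer_instance
      haveI := key (c ⟨U.1, U.2⟩ ⁻¹ᵁ (q ⁻¹ᵁ U.1)) (by rw [hrange ⟨U.1, U.2⟩, Scheme.Hom.preimage_opensRange])
      infer_instance
    rw [Scheme.Hom.comp_app] at h
    have h2 : IsIso (ρ.app (q ⁻¹ᵁ U.1) ≫ V.ι.app (ρ ⁻¹ᵁ (q ⁻¹ᵁ U.1))) := by
      rw [h]
      exact @IsIso.comp_isIso _ _ _ _ _ _ _ h1 inferInstance
    haveI : IsIso (V.ι.app (ρ ⁻¹ᵁ (q ⁻¹ᵁ U.1))) :=
      V.ι.isIso_app _ (by rw [Scheme.Opens.opensRange_ι]; exact hV.le)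
    exact (isIso_comp_right_iff _ _).1 h2

end RelHullLib
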